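import Groth.Agent.FlatCrit65.Assassin.FlatAt
import Groth.Agent.CAlg7.FlatLimit

/-!
# Flatness from a flat associated graded module

For a module over an algebra of finite type, flatness of the associated graded pieces along an ideal gives
flatness at every prime containing the ideal, without Noetherian hypotheses on the base.
-/

universe u

noncomputable section

open TensorProduct

namespace Groth.Agent.GrFlat52

variable {A B M : Type u} [CommRing A] [CommRing B] [Algebra A B] [AddCommGroup M] [Module B M] [Module A M]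
  [IsScalarTower A B M]

/-- Krull's intersection theorem over the residue field of a prime of the base. -/
theorem exists_notMem_smul_eq_zero [Algebra.FiniteType A B] [Module.Finite B M] (p : Ideal A) [p.IsPrime]
    (J q : Ideal B) [q.IsPrime] (hqp : q.comap (algebraMap A B) = p) (hJq : J ≤ q)
    (x : M ⊗[A] p.ResidueField) (hx : ∀ k, x ∈ J ^ k • (⊤ : Submodule B (M ⊗[A] p.ResidueField))) :
    ∃ t ∉ q, t • x = 0 := by
  let K := p.ResidueField
  let Bκ := B ⊗[A] K
  have : IsNoetherianRing (K ⊗[A] B) := Algebra.FiniteType.isNoetherianRing K _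
  have : IsNoetherianRing Bκ :=
    isNoetherianRing_of_ringEquiv (K ⊗[A] B) (Algebra.TensorProduct.comm A K B).toRingEquiv
  let g : M ⊗[A] K ≃ₗ[B] Bκ ⊗[B] M :=
    (AlgebraTensorModule.cancelBaseChange A B B M K).symm ≪≫ₗ TensorProduct.comm B M Bκ
  let J' : Ideal Bκ := J.map (algebraMap B Bκ)
  have hgx : ∀ k, g x ∈ J' ^ k • (⊤ : Submodule Bκ (Bκ ⊗[B] M)) := fun k => by
    refine Submodule.smul_induction_on (p := fun y => g y ∈ J' ^ k • (⊤ : Submodule Bκ (Bκ ⊗[B] M))) (hx k)
      (fun a ha y _ => ?_) fun y z hy hz => by rw [map_add]; exact add_mem hy hz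
    rw [map_smul, ← algebraMap_smul Bκ a (g y)]
    refine Submodule.smul_mem_smul ?_ trivial
    rw [← Ideal.map_pow]
    exact Ideal.mem_map_of_mem _ ha
  obtain ⟨⟨r, hr⟩, hry⟩ := (Ideal.mem_iInf_smul_pow_eq_bot_iff J' (g x)).mp (Submodule.mem_iInf _ |>.mpr hgx)
  have hK : ∀ c : K, ∃ a s, s ∉ p ∧ algebraMap A K s * c = algebraMap A K a := by
    intro c
    obtain ⟨c, rfl⟩ := IsLocalRing.residue_surjective c
    obtain ⟨⟨a, s⟩, h⟩ := IsLocalization.surj p.primeCompl c
    refine ⟨a, s, s.2, ?_⟩
    rw [IsScalarTower.algebraMap_apply A (Localization.AtPrime p) K,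
      IsScalarTower.algebraMap_apply A (Localization.AtPrime p) K]
    show IsLocalRing.residue _ _ * IsLocalRing.residue _ c = IsLocalRing.residue _ _
    rw [← map_mul, mul_comm, h]
  have hden : ∀ c : Bκ, ∃ b s, s ∉ p ∧ algebraMap A Bκ s * c = algebraMap B Bκ b := by
    intro c
    induction c using TensorProduct.induction_on with
    | zero => exact ⟨0, 1, fun h => ‹p.IsPrime›.ne_top ((Ideal.eq_top_iff_one p).mpr h), by simp⟩
    | tmul b c =>
      obtain ⟨a, s, hs, h⟩ := hK c
      refine ⟨a • b, s, hs, ?_⟩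
      rw [← Algebra.smul_def, ← TensorProduct.tmul_smul, Algebra.smul_def, h, Algebra.algebraMap_eq_smul_one a,
        TensorProduct.tmul_smul, TensorProduct.smul_tmul']
      rfl
    | add c d hc hd =>
      obtain ⟨b, s, hs, h⟩ := hc
      obtain ⟨b', s', hs', h'⟩ := hd
      refine ⟨algebraMap A B s' * b + algebraMap A B s * b', s * s',
        fun hm => (‹p.IsPrime›.mem_or_mem hm).elim hs hs', ?_⟩
      rw [map_add, map_mul (algebraMap B Bκ), map_mul (algebraMap B Bκ), ← IsScalarTower.algebraMap_apply,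
        ← IsScalarTower.algebraMap_apply, ← h, ← h', map_mul]
      ring
  obtain ⟨j, hj, s, hs, hsr⟩ : ∃ j ∈ J, ∃ s, s ∉ p ∧ algebraMap A Bκ s * r = algebraMap B Bκ j := by
    clear hry
    change r ∈ Ideal.span (algebraMap B Bκ '' J) at hr
    induction hr using Submodule.span_induction with
    | mem z hz =>
      obtain ⟨j, hj, rfl⟩ := hz
      exact ⟨j, hj, 1, fun h => ‹p.IsPrime›.ne_top ((Ideal.eq_top_iff_one p).mpr h), by simp⟩
    | zero => exact ⟨0, J.zero_mem, 1, fun h => ‹p.IsPrime›.ne_top ((Ideal.eq_top_iff_one p).mpr h), by simp⟩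
    | add c d _ _ hc hd =>
      obtain ⟨b, hb, s, hs, h⟩ := hc
      obtain ⟨b', hb', s', hs', h'⟩ := hd
      refine ⟨algebraMap A B s' * b + algebraMap A B s * b', add_mem (J.mul_mem_left _ hb) (J.mul_mem_left _ hb'),
        s * s', fun hm => (‹p.IsPrime›.mem_or_mem hm).elim hs hs', ?_⟩
      rw [map_add, map_mul (algebraMap B Bκ), map_mul (algebraMap B Bκ), ← IsScalarTower.algebraMap_apply,
        ← IsScalarTower.algebraMap_apply, ← h, ← h', map_mul]
      ring
    | smul c d _ hd =>
      obtain ⟨b, s, hs, h⟩ := hden c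
      obtain ⟨b', hb', s', hs', h'⟩ := hd
      refine ⟨b * b', J.mul_mem_left _ hb', s * s', fun hm => (‹p.IsPrime›.mem_or_mem hm).elim hs hs', ?_⟩
      rw [map_mul (algebraMap B Bκ), ← h, ← h', smul_eq_mul, map_mul]
      ring
  refine ⟨algebraMap A B s - j, fun hm => hs ?_, g.injective ?_⟩
  · rw [← hqp, Ideal.mem_comap, ← sub_add_cancel (algebraMap A B s) j]
    exact add_mem hm (hJq hj)
  · rw [map_zero, map_smul, ← algebraMap_smul Bκ (algebraMap A B s - j) (g x), map_sub,
      ← IsScalarTower.algebraMap_apply, ← hsr]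
    show (algebraMap A Bκ s - algebraMap A Bκ s * r : Bκ) • (g x : Bκ ⊗[B] M) = 0
    exact (sub_smul (R := Bκ) _ _ (g x)).trans (sub_eq_zero.mpr
      (((mul_smul (α := Bκ) _ r (g x)).trans (congrArg (algebraMap A Bκ s • ·) hry)).symm))

/-- Modules whose associated graded pieces along `J` are flat are flat at primes containing `J`. -/
theorem flat_localized [Algebra.FiniteType A B] [Module.Finite B M] (J : Ideal B)
    (hgr : ∀ k : ℕ, Module.Flat A
      (↥(J ^ k • (⊤ : Submodule B M)) ⧸ Submodule.comap (J ^ k • (⊤ : Submodule B M)).subtype (J ^ (k + 1) • ⊤)))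
    (q : Ideal B) [q.IsPrime] (hq : J ≤ q) : Module.Flat A (LocalizedModule q.primeCompl M) := by
  classical
  have hflat : ∀ k : ℕ, Module.Flat A (M ⧸ (J ^ k • ⊤ : Submodule B M)) := by
    intro n
    induction n with
    | zero =>
      have : Subsingleton (M ⧸ (J ^ 0 • ⊤ : Submodule B M)) :=
        Submodule.Quotient.subsingleton_iff.2 (by simp)
      infer_instance
    | succ n ih =>
      let P : Submodule B M := J ^ n • ⊤
      let Q : Submodule B M := J ^ (n + 1) • ⊤
      let e : (↥P ⧸ Submodule.comap P.subtype Q) →ₗ[B] (M ⧸ Q) := Submodule.mapQ _ _ P.subtype fun _ h => h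
      have hQP : Q ≤ P := Submodule.smul_mono_left (Ideal.pow_le_pow_right (Nat.le_succ n))
      let g : (M ⧸ Q) →ₗ[B] (M ⧸ P) := Submodule.mapQ _ _ LinearMap.id hQP
      have := hgr n
      refine CAlg7.flat_of_exact (e.restrictScalars A) (g.restrictScalars A) ?_ ?_ ?_
      · show Function.Injective e
        rw [injective_iff_map_eq_zero]
        intro x hx
        obtain ⟨x, rfl⟩ := Submodule.mkQ_surjective _ x
        exact (Submodule.Quotient.mk_eq_zero _).2 ((Submodule.Quotient.mk_eq_zero Q).1 hx :)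
      · intro x
        obtain ⟨x, rfl⟩ := Submodule.mkQ_surjective _ x
        exact ⟨Submodule.Quotient.mk x, rfl⟩
      · intro x
        obtain ⟨x, rfl⟩ := Submodule.mkQ_surjective _ x
        show (Submodule.Quotient.mk x : M ⧸ P) = 0 ↔ (Submodule.Quotient.mk x : M ⧸ Q) ∈ Set.range e
        rw [Submodule.Quotient.mk_eq_zero]
        refine ⟨fun h => ⟨Submodule.Quotient.mk ⟨x, h⟩, rfl⟩, ?_⟩
        rintro ⟨y, hy⟩
        obtain ⟨y, rfl⟩ := Submodule.mkQ_surjective _ y
        have h' : (y : M) - x ∈ Q := (Submodule.Quotient.eq Q).1 hy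
        simpa using P.sub_mem y.2 (hQP h')
  let p := q.comap (algebraMap A B)
  refine FlatCrit65.flat_localized_of_grInjAt p q rfl fun X _ _ _ _ V hV w hw => ?_
  -- the obstruction lies in all powers of the ideal
  have hmem : ∀ k, w ∈ J ^ k • (⊤ : Submodule B (M ⊗[A] V)) := by
    intro k
    let P : Submodule B M := J ^ k • ⊤
    let f : ↥P →ₗ[A] M := P.subtype.restrictScalars A
    let g : M →ₗ[A] M ⧸ P := P.mkQ.restrictScalars A
    have := hflat k
    have h0 : g.rTensor V w = 0 := by
      apply Module.Flat.lTensor_preserves_injective_linearMap (M := M ⧸ P) (V.subtype.restrictScalars A)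
        Subtype.val_injective
      rw [map_zero, ← LinearMap.comp_apply, LinearMap.lTensor_comp_rTensor, ← LinearMap.rTensor_comp_lTensor,
        LinearMap.comp_apply, hw, map_zero]
    have hex : Function.Exact f g := fun m => by
      show P.mkQ m = 0 ↔ _
      rw [Submodule.mkQ_apply, Submodule.Quotient.mk_eq_zero]
      exact ⟨fun h => ⟨⟨m, h⟩, rfl⟩, fun ⟨y, hy⟩ => hy ▸ y.2⟩
    obtain ⟨z, rfl⟩ := (rTensor_exact V hex P.mkQ_surjective w).mp h0
    clear h0 hw
    induction z using TensorProduct.induction_on with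
    | zero => simp
    | add a b ha hb => rw [map_add]; exact add_mem ha hb
    | tmul m v =>
      rw [LinearMap.rTensor_tmul]
      refine Submodule.smul_induction_on (p := fun y => y ⊗ₜ[A] v ∈ J ^ k • (⊤ : Submodule B (M ⊗[A] V))) m.2
        (fun a ha y _ => ?_) fun y z hy hz => by rw [add_tmul]; exact add_mem hy hz
      rw [← smul_tmul']
      exact Submodule.smul_mem_smul ha trivial
  -- coordinates over the residue field
  let Ap := Localization.AtPrime p
  let K := p.ResidueField
  have htors : Module.IsTorsionBySet Ap V (IsLocalRing.maximalIdeal Ap : Set Ap) :=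
    fun v a => Subtype.ext (hV a a.2 v v.2)
  letI : Module K V := htors.module
  have : IsScalarTower A K V := IsScalarTower.of_algebraMap_smul fun a v => by
    rw [← algebraMap_smul Ap a v]
    exact Module.IsTorsionBySet.mk_smul htors _ v
  let b := Module.Free.chooseBasis K V
  let P i : M ⊗[A] V →ₗ[B] M ⊗[A] K := AlgebraTensorModule.lTensor B M ((b.coord i).restrictScalars A)
  let Q i : M ⊗[A] K →ₗ[B] M ⊗[A] V :=
    AlgebraTensorModule.lTensor B M ((LinearMap.toSpanSingleton K V (b i)).restrictScalars A)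
  have hsum : ∀ w : M ⊗[A] V, ∃ F : Finset _, ∀ F', F ⊆ F' → w = ∑ i ∈ F', Q i (P i w) := by
    intro w
    induction w using TensorProduct.induction_on with
    | zero => exact ⟨∅, fun _ _ => by simp⟩
    | add x y hx hy =>
      obtain ⟨F, hF⟩ := hx
      obtain ⟨G, hG⟩ := hy
      refine ⟨F ∪ G, fun F' h => ?_⟩
      simp only [map_add, Finset.sum_add_distrib]
      rw [← hF F' (Finset.union_subset_left h), ← hG F' (Finset.union_subset_right h)]
    | tmul m v =>
      refine ⟨(b.repr v).support, fun F' h => ?_⟩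
      show m ⊗ₜ[A] v = ∑ i ∈ F', m ⊗ₜ[A] (b.repr v i • b i)
      rw [← tmul_sum]
      conv_lhs => rw [← b.linearCombination_repr v, Finsupp.linearCombination_apply,
        Finsupp.sum_of_support_subset _ h _ fun i _ => zero_smul K (b i)]
  obtain ⟨F, hF⟩ := hsum w
  have hP : ∀ i, ∀ k, P i w ∈ J ^ k • (⊤ : Submodule B (M ⊗[A] K)) := fun i k => by
    have h := Submodule.mem_map_of_mem (f := P i) (hmem k)
    rw [Submodule.map_smul''] at h
    exact Submodule.smul_mono le_rfl le_top h
  choose t ht htP using fun i => exists_notMem_smul_eq_zero p J q rfl hq (P i w) (hP i)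
  refine ⟨∏ i ∈ F, t i, fun hmem => ?_, ?_⟩
  · obtain ⟨i, -, hi⟩ := (Ideal.IsPrime.prod_mem_iff).mp hmem
    exact ht i hi
  · rw [hF F subset_rfl, Finset.smul_sum]
    refine Finset.sum_eq_zero fun i hi => ?_
    obtain ⟨c, hc⟩ := Finset.dvd_prod_of_mem t hi
    rw [hc, mul_comm, mul_smul, ← map_smul, htP i, map_zero, smul_zero]

end Groth.Agent.GrFlat52
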